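import Mathlib.Algebra.Homology.HomologySequence
import Mathlib.Algebra.Homology.HomologicalComplexAbelian
import Mathlib.CategoryTheory.Abelian.Refinements
import Mathlib.CategoryTheory.Preadditive.Injective.Basic
import Mathlib.CategoryTheory.Abelian.Images

/-! # Extending maps of resolutions along a degreewise monomorphism -/

set_option autoImplicit false
set_option linter.style.haveILetI false

noncomputable section

universe v u

open CategoryTheory CategoryTheory.Limits

namespace Groth.Agent.RelComparison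

variable {V : Type u} [Category.{v} V] [Abelian V]

/-- Extension of a morphism to an injective object along a non-necessarily monic map. -/
theorem exists_factor {P B I : V} [Injective I] (m : P ⟶ B) (χ : P ⟶ I)
    (h : kernel.ι m ≫ χ = 0) : ∃ ψ : B ⟶ I, m ≫ ψ = χ := by
  refine ⟨Injective.factorThru (cokernel.desc (kernel.ι m) χ h) (Abelian.factorThruCoimage m), ?_⟩
  conv_lhs => arg 1; rw [← Abelian.coimage.fac m]
  rw [Category.assoc, Injective.comp_factorThru]
  exact cokernel.π_desc _ _ _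

variable {A B I : CochainComplex V ℕ} (i : A ⟶ B) (φ : A ⟶ I)

/-- The property of a partial extension. -/
def Good (n : ℕ) (ψ : B.X n ⟶ I.X n) : Prop :=
  i.f n ≫ ψ = φ.f n ∧ B.iCycles n ≫ ψ ≫ I.d n (n + 1) = 0

theorem exists_step [hI : ∀ n, Injective (I.X n)] (hi : ∀ n, Mono (i.f n))
    (hA : ∀ n, 0 < n → A.ExactAt n) (hB : ∀ n, 0 < n → B.ExactAt n) (n : ℕ)
    (ψ : B.X n ⟶ I.X n) (hψ : Good i φ n ψ) :
    ∃ ψ' : B.X (n + 1) ⟶ I.X (n + 1), B.d n (n + 1) ≫ ψ' = ψ ≫ I.d n (n + 1) ∧ Good i φ (n + 1) ψ' := by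
  obtain ⟨ψ', hψ'⟩ := exists_factor (biprod.desc (i.f (n + 1)) (B.d n (n + 1)))
      (biprod.desc (φ.f (n + 1)) (ψ ≫ I.d n (n + 1))) (by
    set m := biprod.desc (i.f (n + 1)) (B.d n (n + 1))
    obtain ⟨a, ha'⟩ : ∃ a, kernel.ι m ≫ biprod.fst = a := ⟨_, rfl⟩
    obtain ⟨b, hb'⟩ : ∃ b, kernel.ι m ≫ biprod.snd = b := ⟨_, rfl⟩
    have hk : a ≫ i.f (n + 1) + b ≫ B.d n (n + 1) = 0 := by
      have h0 := kernel.condition m
      conv_lhs at h0 => arg 2; rw [show m = biprod.fst ≫ i.f (n + 1) + biprod.snd ≫ B.d n (n + 1) from biprod.desc_eq]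
      rw [Preadditive.comp_add, ← Category.assoc, ← Category.assoc, ha'] at h0
      first | rw [hb'] at h0 | rw [hz'] at h0
      exact h0
    rw [biprod.desc_eq, Preadditive.comp_add, ← Category.assoc, ← Category.assoc, ha', hb']
    have ha : a ≫ A.d (n + 1) (n + 1 + 1) = 0 := by
      haveI := hi (n + 1 + 1)
      rw [← cancel_mono (i.f (n + 1 + 1)), Category.assoc, ← i.comm, ← Category.assoc,
        eq_neg_of_add_eq_zero_left hk, Preadditive.neg_comp, Category.assoc, B.d_comp_d, comp_zero,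
        neg_zero, zero_comp]
    have hex : (A.sc' n (n + 1) (n + 1 + 1)).Exact :=
      (A.exactAt_iff' n (n + 1) (n + 1 + 1) (by simp) (by simp)).1 (hA (n + 1) n.succ_pos)
    obtain ⟨W, π, hπ, a', ha''⟩ : ∃ (W : V) (π : W ⟶ _) (_ : Epi π) (a' : W ⟶ A.X n),
        π ≫ a = a' ≫ A.d n (n + 1) := hex.exact_up_to_refinements a ha
    have hc : (π ≫ b + a' ≫ i.f n) ≫ B.d n (n + 1) = 0 := by
      rw [Preadditive.add_comp, Category.assoc, Category.assoc, i.comm, ← Category.assoc a', ← ha'',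
        Category.assoc, ← Preadditive.comp_add, add_comm (b ≫ _), hk, comp_zero]
    obtain ⟨c, hc'⟩ : ∃ c, c ≫ B.iCycles n = π ≫ b + a' ≫ i.f n :=
      ⟨B.liftCycles _ (n + 1) (by simp) hc, B.liftCycles_i _ _ _ _⟩
    rw [← cancel_epi π, comp_zero, Preadditive.comp_add, ← Category.assoc π, ha'', Category.assoc,
      ← φ.comm, ← hψ.1, Category.assoc, ← Category.assoc a', ← Category.assoc π, ← Preadditive.add_comp,
      add_comm (a' ≫ i.f n), ← hc', Category.assoc, hψ.2, comp_zero])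
  have h1 : i.f (n + 1) ≫ ψ' = φ.f (n + 1) := by
    have := congrArg (fun t => biprod.inl ≫ t) hψ'
    simpa only [← Category.assoc, biprod.inl_desc] using this
  have h2 : B.d n (n + 1) ≫ ψ' = ψ ≫ I.d n (n + 1) := by
    have := congrArg (fun t => biprod.inr ≫ t) hψ'
    simpa only [← Category.assoc, biprod.inr_desc] using this
  refine ⟨ψ', h2, h1, ?_⟩
  have hexB : (B.sc' n (n + 1) (n + 1 + 1)).Exact :=
    (B.exactAt_iff' n (n + 1) (n + 1 + 1) (by simp) (by simp)).1 (hB (n + 1) n.succ_pos)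
  obtain ⟨W, π, hπ, x, hx⟩ : ∃ (W : V) (π : W ⟶ B.cycles (n + 1)) (_ : Epi π) (x : W ⟶ B.X n),
      π ≫ B.iCycles (n + 1) = x ≫ B.d n (n + 1) :=
    hexB.exact_up_to_refinements (B.iCycles (n + 1)) (B.iCycles_d _ _)
  rw [← cancel_epi π, comp_zero, ← Category.assoc, hx, Category.assoc, ← Category.assoc (B.d n (n + 1)), h2,
    Category.assoc, I.d_comp_d, comp_zero, comp_zero]

/-- Extension of a morphism of complexes along a degreewise monomorphism, with prescribed `H⁰`. -/
theorem exists_extend [hI : ∀ n, Injective (I.X n)] (hi : ∀ n, Mono (i.f n))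
    (hA : ∀ n, 0 < n → A.ExactAt n) (hB : ∀ n, 0 < n → B.ExactAt n)
    (g : B.homology 0 ⟶ I.homology 0)
    (hg : HomologicalComplex.homologyMap i 0 ≫ g = HomologicalComplex.homologyMap φ 0) :
    ∃ ψ : B ⟶ I, i ≫ ψ = φ ∧ HomologicalComplex.homologyMap ψ 0 = g := by
  haveI : IsIso (I.homologyπ 0) := inferInstance
  let g0 : B.cycles 0 ⟶ I.cycles 0 := B.homologyπ 0 ≫ g ≫ inv (I.homologyπ 0)
  have hg0 : HomologicalComplex.cyclesMap i 0 ≫ g0 = HomologicalComplex.cyclesMap φ 0 := by
    rw [← cancel_mono (I.homologyπ 0)]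
    simp only [g0, Category.assoc, IsIso.inv_hom_id, Category.comp_id]
    rw [← HomologicalComplex.homologyπ_naturality_assoc, hg, HomologicalComplex.homologyπ_naturality]
  obtain ⟨ψ₀, hψ₀⟩ := exists_factor (biprod.desc (i.f 0) (B.iCycles 0))
      (biprod.desc (φ.f 0) (g0 ≫ I.iCycles 0)) (by
    set m := biprod.desc (i.f 0) (B.iCycles 0)
    obtain ⟨a, ha'⟩ : ∃ a, kernel.ι m ≫ biprod.fst = a := ⟨_, rfl⟩
    obtain ⟨z, hz'⟩ : ∃ z, kernel.ι m ≫ biprod.snd = z := ⟨_, rfl⟩
    have hk : a ≫ i.f 0 + z ≫ B.iCycles 0 = 0 := by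
      have h0 := kernel.condition m
      conv_lhs at h0 => arg 2; rw [show m = biprod.fst ≫ i.f 0 + biprod.snd ≫ B.iCycles 0 from biprod.desc_eq]
      rw [Preadditive.comp_add, ← Category.assoc, ← Category.assoc, ha'] at h0
      first | rw [hb'] at h0 | rw [hz'] at h0
      exact h0
    rw [biprod.desc_eq, Preadditive.comp_add, ← Category.assoc, ← Category.assoc, ha', hz']
    have ha : a ≫ A.d 0 1 = 0 := by
      haveI := hi 1
      rw [← cancel_mono (i.f 1), Category.assoc, ← i.comm, ← Category.assoc,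
        eq_neg_of_add_eq_zero_left hk, Preadditive.neg_comp, Category.assoc, B.iCycles_d, comp_zero,
        neg_zero, zero_comp]
    obtain ⟨a', ha''⟩ : ∃ a', a' ≫ A.iCycles 0 = a :=
      ⟨A.liftCycles a 1 (by simp) ha, A.liftCycles_i _ _ _ _⟩
    have hz : z = -(a' ≫ HomologicalComplex.cyclesMap i 0) := by
      rw [← cancel_mono (B.iCycles 0), Preadditive.neg_comp, Category.assoc,
        HomologicalComplex.cyclesMap_i, ← Category.assoc, ha'']
      exact eq_neg_of_add_eq_zero_right hk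
    rw [hz, Preadditive.neg_comp, Category.assoc, ← Category.assoc _ g0, hg0,
      HomologicalComplex.cyclesMap_i, ← Category.assoc, ha'', add_neg_cancel])
  have h1 : i.f 0 ≫ ψ₀ = φ.f 0 := by
    have := congrArg (fun t => biprod.inl ≫ t) hψ₀
    simpa only [← Category.assoc, biprod.inl_desc] using this
  have h2 : B.iCycles 0 ≫ ψ₀ = g0 ≫ I.iCycles 0 := by
    have := congrArg (fun t => biprod.inr ≫ t) hψ₀
    simpa only [← Category.assoc, biprod.inr_desc] using this
  have h0 : Good i φ 0 ψ₀ := ⟨h1, by rw [← Category.assoc, h2, Category.assoc, I.iCycles_d, comp_zero]⟩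
  choose next hnext using fun n (p : {ψ : B.X n ⟶ I.X n // Good i φ n ψ}) =>
    exists_step i φ hi hA hB n p.1 p.2
  let seq : ∀ n, {ψ : B.X n ⟶ I.X n // Good i φ n ψ} :=
    fun n => Nat.rec ⟨ψ₀, h0⟩ (fun k p => ⟨next k p, (hnext k p).2⟩) n
  let ψ : B ⟶ I :=
    { f := fun n => (seq n).1
      comm' := fun k l (h : k + 1 = l) => by
        subst h
        exact (hnext k (seq k)).1.symm }
  refine ⟨ψ, HomologicalComplex.hom_ext _ _ fun n => (seq n).2.1, ?_⟩
  have : HomologicalComplex.cyclesMap ψ 0 = g0 := by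
    rw [← cancel_mono (I.iCycles 0), HomologicalComplex.cyclesMap_i]
    exact h2
  rw [← cancel_epi (B.homologyπ 0), HomologicalComplex.homologyπ_naturality, this]
  simp [g0]

end Groth.Agent.RelComparison
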